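import Mathlib.AlgebraicGeometry.AffineSpace
import Mathlib.AlgebraicGeometry.Properties

/-! # Units on affine space over a reduced affine base -/

set_option autoImplicit false

universe u

open CategoryTheory AlgebraicGeometry

namespace Groth.Agent.H23Frob

theorem exists_eq_appTop_of_isUnit (n : Type u) (R : CommRingCat.{u}) [IsReduced (Spec R)] (w' : Γ(𝔸(n; Spec R), ⊤))
    (hu : IsUnit w') : ∃ r, (𝔸(n; Spec R) ↘ Spec R).appTop r = w' := by
  have hu' := (hu.map (AffineSpace.SpecIso n R).inv.appTop.hom).map (Scheme.ΓSpecIso _).hom.hom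
  haveI : _root_.IsReduced R := isReduced_of_injective (Scheme.ΓSpecIso R).inv.hom
    (ConcreteCategory.bijective_of_isIso (Scheme.ΓSpecIso R).inv).1
  obtain ⟨r, -, hr⟩ := MvPolynomial.isUnit_iff_eq_C_of_isReduced.mp hu'
  refine ⟨(Scheme.ΓSpecIso R).inv r, Function.LeftInverse.injective
    (f := fun z => (AffineSpace.SpecIso n R).inv.appTop z)
    (g := fun z => (AffineSpace.SpecIso n R).hom.appTop z) (fun z => ?_) ?_⟩
  · show (AffineSpace.SpecIso n R).hom.appTop ((AffineSpace.SpecIso n R).inv.appTop z) = z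
    rw [← CommRingCat.comp_apply, ← Scheme.Hom.comp_appTop, Iso.hom_inv_id, Scheme.Hom.id_appTop]; rfl
  refine ((ConcreteCategory.congr_hom (congrArg Scheme.Hom.appTop (AffineSpace.SpecIso_inv_over R)) _).trans ?_)
  refine (ConcreteCategory.bijective_of_isIso (Scheme.ΓSpecIso _).hom).1 ?_
  refine Eq.trans ?_ hr.symm
  have h := ConcreteCategory.congr_hom (Scheme.ΓSpecIso_naturality (CommRingCat.ofHom (MvPolynomial.C : R →+* MvPolynomial n R))) ((Scheme.ΓSpecIso R).inv r)
  refine h.trans ?_
  exact congrArg (fun z => MvPolynomial.C z) (Iso.inv_hom_id_apply (Scheme.ΓSpecIso R) r)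

end Groth.Agent.H23Frob
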